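import Groth.Agent.PerfFibreLib.Model
import Groth.Agent.DRingLib.AmplitudeBC
import Groth.Agent.DRingLib.Devissage
import Groth.Agent.TildeDerLib.Affine
import Groth.Agent.MiscFlat6.TildeFin
import Groth.Agent.HensSchLib.Flat

/-!
# Pseudo-coherent and perfect objects on affine spectra
-/

set_option autoImplicit false
set_option backward.isDefEq.respectTransparency false
set_option backward.isDefEq.respectTransparency.types false
set_option maxHeartbeats 1000000

universe u

open CategoryTheory CategoryTheory.Limits AlgebraicGeometry Opposite HomologicalComplex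

attribute [local instance] HasDerivedCategory.standard

namespace Groth.Agent.TildePCLib

open Groth.Agent.PerfLib (resD resC res IAE HasPC HasModel)
open Groth.Agent.PerfFibreLib (tC)
open Groth.Agent.DRingLib (extCx DetectsZero Approx IsBddFree)
open scoped TensorProduct

variable {A : Type u} [CommRing A]

/-- Restriction along the identity. -/
theorem nonempty_resD_id {X : Scheme.{u}} (K : DCoh.D X) : Nonempty ((resD (𝟙 X)).obj K ≅ K) :=
  ⟨(resD (𝟙 X)).mapIso (DerivedCategory.Q.objObjPreimageIso K).symm ≪≫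
    Groth.Agent.PerfLib.resDQIso (𝟙 X) _ ≪≫
    DerivedCategory.Q.mapIso (HomologicalComplex.Hom.isoOfComponents
      (fun n => Scheme.Modules.restrictFunctorId.app ((DerivedCategory.Q.objPreimage K).X n))
      fun i j _ =>
        (Scheme.Modules.restrictFunctorId.hom.naturality ((DerivedCategory.Q.objPreimage K).d i j)).symm) ≪≫
    DerivedCategory.Q.objObjPreimageIso K⟩

theorem isStrictlyPerfect_tC {E : CochainComplex (ModuleCat.{u} A) ℤ} {a b : ℤ}
    (hv : DRing.VanishesOutside E a b) (hf : DRing.TermwiseFiniteProjective E) :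
    DCoh.IsStrictlyPerfect ((tC (CommRingCat.of A)).obj E) :=
  ⟨⟨a, b, fun i hi => (tilde.functor (CommRingCat.of A)).map_isZero (hv i hi)⟩,
    fun i => (MiscFlat6.isFinLocFree_iff (R := CommRingCat.of A) (E.X i)).2 (hf i)⟩

section

variable [PreservesFiniteLimits (tilde.functor (CommRingCat.of A))]

theorem isPC_tildeD {M : Dual.D A} {m : ℤ} (h : DRing.IsPseudoCoherent A m M) :
    DCoh.IsPseudoCoherentD m ((DCoh.tildeD (CommRingCat.of A)).obj M) := by
  obtain ⟨E, a, b, α, hv, hf, hα⟩ := h
  refine (Groth.Agent.PerfLib.isPC_iff m _).2 fun x => ⟨_, 𝟙 _, inferInstance, x, rfl, ?_⟩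
  obtain ⟨c⟩ := nonempty_resD_id ((DCoh.tildeD (CommRingCat.of A)).obj M)
  refine ⟨(tC (CommRingCat.of A)).obj E,
    ((tilde.functor (CommRingCat.of A)).mapDerivedCategoryFactors.app E).inv ≫
      (DCoh.tildeD (CommRingCat.of A)).map α ≫ c.inv,
    isStrictlyPerfect_tC hv (fun i => ⟨(hf i).1, haveI := (hf i).2; inferInstance⟩), ?_⟩
  exact (IAE.of_isIso _ m).comp ((IAE.map (tilde.functor (CommRingCat.of A)) hα).comp (IAE.of_isIso _ m))

theorem isPerfect_tildeD {M : Dual.D A} (h : DRing.IsPerfect A M) :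
    DCoh.IsPerfect ((DCoh.tildeD (CommRingCat.of A)).obj M) := by
  obtain ⟨E, a, b, hv, hf, ⟨e⟩⟩ := h
  refine (Groth.Agent.PerfLib.isPerfect_iff _).2 fun x => ⟨_, 𝟙 _, inferInstance, x, rfl, ?_⟩
  obtain ⟨c⟩ := nonempty_resD_id ((DCoh.tildeD (CommRingCat.of A)).obj M)
  exact ⟨_, isStrictlyPerfect_tC hv hf, ⟨c ≪≫ (DCoh.tildeD (CommRingCat.of A)).mapIso e.symm ≪≫
    (tilde.functor (CommRingCat.of A)).mapDerivedCategoryFactors.app E⟩⟩

/-- Restriction of a tilde object to an affine open is the tilde of the base change. -/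
theorem nonempty_resD_tilde {B : Type u} [CommRing B]
    [PreservesFiniteLimits (tilde.functor (CommRingCat.of B))] (φ : A →+* B)
    [IsOpenImmersion (Spec.map (CommRingCat.ofHom φ))] (K : CochainComplex (ModuleCat.{u} A) ℤ) :
    Nonempty ((resD (Spec.map (CommRingCat.ofHom φ))).obj
        ((DCoh.tildeD (CommRingCat.of A)).obj (DerivedCategory.Q.obj K)) ≅
      (DCoh.tildeD (CommRingCat.of B)).obj (DerivedCategory.Q.obj ((extCx φ).obj K))) :=
  ⟨(resD _).mapIso ((tilde.functor (CommRingCat.of A)).mapDerivedCategoryFactors.app K) ≪≫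
    Groth.Agent.PerfLib.resDQIso _ _ ≪≫
    DerivedCategory.Q.mapIso
      ((show (resC (Spec.map (CommRingCat.ofHom φ))).obj ((tC (CommRingCat.of A)).obj K) ≅
        (KFlatLib.pullCx (Spec.map (CommRingCat.ofHom φ))).obj ((tC (CommRingCat.of A)).obj K) from
        HomologicalComplex.Hom.isoOfComponents
        (fun n => (Scheme.Modules.restrictFunctorIsoPullback (Spec.map (CommRingCat.ofHom φ))).app
          (((tC (CommRingCat.of A)).obj K).X n))
        (fun i j _ => ((Scheme.Modules.restrictFunctorIsoPullback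
          (Spec.map (CommRingCat.ofHom φ))).hom.naturality
            (((tC (CommRingCat.of A)).obj K).d i j)).symm)) ≪≫ (LpullTildeLib.cxIso φ).app K) ≪≫
    ((tilde.functor (CommRingCat.of B)).mapDerivedCategoryFactors.app ((extCx φ).obj K)).symm⟩

theorem approx_of_tildeD {P Q : DerivedCategory (ModuleCat.{u} A)} (β : P ⟶ Q) {m : ℤ}
    (h : IAE ((DCoh.tildeD (CommRingCat.of A)).map β) m) : Approx m β := by
  refine ⟨fun i hi => (TildeDerLib.isIso_homology_iff (CommRingCat.of A) β i).1 (h.1 i hi), ?_⟩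
  haveI := h.2
  let e := Groth.Agent.DerLib.ExactHomology.homologyIso (tilde.functor (CommRingCat.of A)) m
  haveI : Epi ((DerivedCategory.homologyFunctor _ m).map ((DCoh.tildeD (CommRingCat.of A)).map β) ≫
      e.hom.app Q) := epi_comp _ _
  have hn := e.hom.naturality β
  simp only [Functor.comp_map] at hn
  haveI : Epi (e.hom.app P ≫
      (tilde.functor (CommRingCat.of A)).map ((DerivedCategory.homologyFunctor _ m).map β)) := by
    rw [← hn]
    infer_instance
  haveI : Epi ((tilde.functor (CommRingCat.of A)).map ((DerivedCategory.homologyFunctor _ m).map β)) :=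
    epi_of_epi (e.hom.app P) _
  haveI : (tilde.functor (CommRingCat.of A)).Faithful := tilde.fullyFaithfulFunctor.faithful
  exact (tilde.functor (CommRingCat.of A)).epi_of_epi_map inferInstance

end

theorem flat_of_isOpenImmersion {B : Type u} [CommRing B] (φ : A →+* B)
    [IsOpenImmersion (Spec.map (CommRingCat.ofHom φ))] : φ.Flat :=
  (HasRingHomProperty.Spec_iff (P := @Flat) (φ := CommRingCat.ofHom φ)).1 inferInstance

/-- A family of flat algebras with jointly surjective spectra detects zero modules. -/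
theorem detectsZero_of_cover {ι : Type} (S : ι → Type u) [∀ i, CommRing (S i)] [∀ i, Algebra A (S i)]
    [∀ i, Module.Flat A (S i)]
    (h : ∀ p : PrimeSpectrum A, ∃ (i : ι) (q : PrimeSpectrum (S i)),
      PrimeSpectrum.comap (algebraMap A (S i)) q = p) :
    DetectsZero (R := A) S := by
  intro M _ _ hM
  refine ⟨fun m₁ m₂ => sub_eq_zero.1 ?_⟩
  let f := LinearMap.toSpanSingleton A M (m₁ - m₂)
  by_contra hne
  obtain ⟨p, hp, hker⟩ := Ideal.exists_le_maximal (LinearMap.ker f)
    fun ht => hne (by simpa [f] using (show (1 : A) ∈ LinearMap.ker f from ht ▸ Submodule.mem_top))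
  obtain ⟨i, q, hq⟩ := h ⟨p, hp.isPrime⟩
  have := hM i
  have hex := Module.Flat.lTensor_exact (S i) (LinearMap.exact_subtype_ker_map f)
  obtain ⟨y, hy⟩ := (hex ((1 : S i) ⊗ₜ[A] (1 : A))).1 (Subsingleton.elim _ _)
  have key : ∀ y : S i ⊗[A] LinearMap.ker f,
      TensorProduct.rid A (S i) ((LinearMap.ker f).subtype.lTensor (S i) y) ∈ q.asIdeal := by
    intro y
    induction y using TensorProduct.induction_on with
    | zero => simp
    | add a b ha hb => rw [map_add, map_add]; exact add_mem ha hb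
    | tmul s a =>
      rw [LinearMap.lTensor_tmul, TensorProduct.rid_tmul, Algebra.smul_def]
      refine Ideal.mul_mem_right _ _ ?_
      have ha : (a : A) ∈ (PrimeSpectrum.comap (algebraMap A (S i)) q).asIdeal := by
        rw [hq]; exact hker a.2
      exact ha
  have h1 := key y
  rw [hy, TensorProduct.rid_tmul, one_smul] at h1
  exact q.2.ne_top ((Ideal.eq_top_iff_one _).2 h1)

variable [PreservesFiniteLimits (tilde.functor (CommRingCat.of A))]

/-- A finite family of flat covers on which a local property holds. -/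
theorem exists_family (P : ∀ (B : Type u) [CommRing B], (A →+* B) → Prop)
    (h : ∀ x : PrimeSpectrum A, ∃ (B : CommRingCat.{u}) (φ : A →+* B) (q : PrimeSpectrum B),
      IsOpenImmersion (Spec.map (CommRingCat.ofHom φ)) ∧ PrimeSpectrum.comap φ q = x ∧ P B φ) :
    ∃ (n : ℕ) (S : Fin n → CommRingCat.{u}) (φ : ∀ i, A →+* S i), (∀ i, (φ i).Flat) ∧
      (∀ i, P (S i) (φ i)) ∧ ∀ p : PrimeSpectrum A, ∃ i q, PrimeSpectrum.comap (φ i) q = p := by
  choose B φ q ho hq hP using h
  obtain ⟨t, ht⟩ := isCompact_univ.elim_finite_subcover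
    (fun x => Set.range (PrimeSpectrum.comap (φ x)))
    (fun x => by
      haveI := ho x
      exact (Spec.map (CommRingCat.ofHom (φ x))).isOpenEmbedding.isOpen_range)
    fun x _ => Set.mem_iUnion.2 ⟨x, q x, hq x⟩
  refine ⟨t.card, fun i => B (t.equivFin.symm i).1, fun i => φ (t.equivFin.symm i).1,
    fun i => ?_, fun i => hP _, fun p => ?_⟩
  · haveI := ho (t.equivFin.symm i).1
    exact flat_of_isOpenImmersion _
  · obtain ⟨x, hx, q', hq'⟩ := Set.mem_iUnion₂.1 (ht (Set.mem_univ p))
    obtain ⟨i, hi⟩ := t.equivFin.symm.surjective ⟨x, hx⟩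
    obtain rfl : (t.equivFin.symm i).1 = x := congrArg Subtype.val hi
    exact ⟨i, q', hq'⟩

theorem isPseudoCoherent_of_tildeD {M : Dual.D A} {m : ℤ}
    (h : DCoh.IsPseudoCoherentD m ((DCoh.tildeD (CommRingCat.of A)).obj M)) :
    DRing.IsPseudoCoherent A m M := by
  obtain ⟨eK⟩ : Nonempty (DerivedCategory.Q.obj (DerivedCategory.Q.objPreimage M) ≅ M) :=
    ⟨DerivedCategory.Q.objObjPreimageIso M⟩
  refine Groth.Agent.DRingLib.isPseudoCoherent_of_iso eK ?_
  let K := DerivedCategory.Q.objPreimage M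
  obtain ⟨n, S, φ, hflat, hP, hcov⟩ := exists_family (A := A)
    (fun B _ φ => DRing.IsPseudoCoherent B m (DerivedCategory.Q.obj ((extCx φ).obj K))) fun x => by
      obtain ⟨B, j, hj, p, M', r, a, b, α, hp, hr, hM', hα⟩ :=
        PerfFibreLib.exists_model_pc (X := Spec (CommRingCat.of A))
          (Groth.Agent.PerfLib.isPC_of_iso ((DCoh.tildeD (CommRingCat.of A)).mapIso eK.symm) h) x
      obtain ⟨ψ, rfl⟩ : ∃ ψ : A →+* B, Spec.map (CommRingCat.ofHom ψ) = j :=
        ⟨(Spec.preimage j).hom, Spec.map_preimage j⟩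
      refine ⟨B, ψ, p, hj, hp, ?_⟩
      haveI : PreservesFiniteLimits (tilde.functor (CommRingCat.of B)) :=
        HensSchLib.tilde_preservesFiniteLimits _
      obtain ⟨c⟩ := nonempty_resD_tilde ψ K
      haveI := (TildeDerLib.adjD (CommRingCat.of B)).fullyFaithfulLOfIsIsoUnit.full
      obtain ⟨β, hβ⟩ := (DCoh.tildeD (CommRingCat.of B)).map_surjective
        (((tilde.functor (CommRingCat.of B)).mapDerivedCategoryFactors.app M').hom ≫ α ≫ c.hom)
      have hbd : IsBddFree M' := by
        refine ⟨a, b, fun i hi => ?_, fun i => ?_⟩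
        · obtain ⟨e⟩ := hM' i
          haveI : IsEmpty (Fin (r i)) := by rw [hr i hi]; infer_instance
          haveI : Subsingleton (M'.X i) := e.injective.subsingleton
          exact ModuleCat.isZero_of_subsingleton _
        · obtain ⟨e⟩ := hM' i
          exact ⟨Module.Finite.equiv e.symm, Module.Free.of_equiv e.symm⟩
      refine Groth.Agent.DRingLib.isPseudoCoherent_iff.2 ⟨M', β, hbd, approx_of_tildeD β ?_⟩
      rw [hβ]
      exact (IAE.of_isIso _ m).comp (hα.comp (IAE.of_isIso _ m))
  letI : ∀ i, Algebra A (S i) := fun i => (φ i).toAlgebra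
  haveI : ∀ i, Module.Flat A (S i) := fun i => hflat i
  exact Groth.Agent.DRingLib.isPseudoCoherent_of_family
    (detectsZero_of_cover (fun i => (S i : Type u)) hcov) K m hP

theorem isPerfect_of_tildeD {M : Dual.D A}
    (h : DCoh.IsPerfect ((DCoh.tildeD (CommRingCat.of A)).obj M)) : DRing.IsPerfect A M := by
  obtain ⟨eK⟩ : Nonempty (DerivedCategory.Q.obj (DerivedCategory.Q.objPreimage M) ≅ M) :=
    ⟨DerivedCategory.Q.objObjPreimageIso M⟩
  refine Groth.Agent.DRingLib.isPerfect_of_iso eK ?_
  let K := DerivedCategory.Q.objPreimage M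
  obtain ⟨n, S, φ, hflat, hP, hcov⟩ := exists_family (A := A)
    (fun B _ φ => DRing.IsPerfect B (DerivedCategory.Q.obj ((extCx φ).obj K))) fun x => by
      obtain ⟨B, j, hj, p, M', r, a, b, α, hp, hr, hM'⟩ :=
        PerfFibreLib.exists_model_perfect (X := Spec (CommRingCat.of A))
          (Groth.Agent.PerfLib.isPerfect_of_iso ((DCoh.tildeD (CommRingCat.of A)).mapIso eK.symm) h) x
      obtain ⟨ψ, rfl⟩ : ∃ ψ : A →+* B, Spec.map (CommRingCat.ofHom ψ) = j :=
        ⟨(Spec.preimage j).hom, Spec.map_preimage j⟩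
      refine ⟨B, ψ, p, hj, hp, ?_⟩
      haveI : PreservesFiniteLimits (tilde.functor (CommRingCat.of B)) :=
        HensSchLib.tilde_preservesFiniteLimits _
      obtain ⟨c⟩ := nonempty_resD_tilde ψ K
      let F := (TildeDerLib.adjD (CommRingCat.of B)).fullyFaithfulLOfIsIsoUnit
      refine ⟨M', a, b, fun i hi => ?_, fun i => ?_, ⟨F.preimageIso
        (((tilde.functor (CommRingCat.of B)).mapDerivedCategoryFactors.app M') ≪≫ α ≪≫ c)⟩⟩
      · obtain ⟨e⟩ := hM' i
        haveI : IsEmpty (Fin (r i)) := by rw [hr i hi]; infer_instance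
        haveI : Subsingleton (M'.X i) := e.injective.subsingleton
        exact ModuleCat.isZero_of_subsingleton _
      · obtain ⟨e⟩ := hM' i
        exact ⟨Module.Finite.equiv e.symm, Module.Projective.of_equiv e.symm⟩
  letI : ∀ i, Algebra A (S i) := fun i => (φ i).toAlgebra
  haveI : ∀ i, Module.Flat A (S i) := fun i => hflat i
  exact Groth.Agent.DRingLib.isPerfect_of_family
    (detectsZero_of_cover (fun i => (S i : Type u)) hcov) K hP

end Groth.Agent.TildePCLib
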